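import Cfsg.Agent.H450.UF.Geo

/-!
# Isotropic vectors `v` with `B v (g v) ≠ 0` (helper929), S4327, unitary family

`B` a nondegenerate Hermitian form, `dim V ≥ 2`, `F` finite, every `q`.

* `span_hyp` : for isotropic `v ≠ 0` the isotropic `w` with `B v w = 1` span `V`;
* `exists_iso_lin` : `g` linear, not scalar : there is an isotropic `v` with `B v (g v) ≠ 0`;
* `exists_iso_bar` : `g` semilinear with respect to `σ`, `B x (g x) ≠ 0` for some `x`;
* `exists_iso_semi` : `g` semilinear with respect to `τ`, `τ` not trivial on the fixed field of `σ`.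
-/

set_option autoImplicit false
set_option linter.unusedSectionVars false

namespace Cfsg.Agent.H929.Gs

open Module Cfsg.Agent.H91.U Cfsg.Agent.H450.UF

variable {F V : Type*} [Field F] [AddCommGroup V] [Module F V] {σ : F →+* F} {B : V →ₛₗ[σ] V →ₗ[F] F}

/-- `c ≠ 0` of trace zero -/
theorem exists_skew (hB : HForm B) : ∃ c : F, c ≠ 0 ∧ σ c = -c := by
  have h := hB.ne_id
  by_contra hcon
  push Not at hcon
  apply h
  ext e
  by_contra he
  apply hcon (e - σ e) (sub_ne_zero.2 (Ne.symm he))
  rw [map_sub, hB.invol]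
  ring

/-- some element is not fixed -/
theorem exists_moved (hB : HForm B) : ∃ e : F, σ e ≠ e := by
  by_contra hcon
  push Not at hcon
  exact hB.ne_id (RingHom.ext hcon)

/-- isotropic partners: `y = w₀ + u + λ v` -/
theorem iso_partner (hB : HForm B) {v w u : V} {t : F} (hv : B v v = 0) (hw : B w w = 0) (hvw : B v w = 1)
    (hvu : B v u = 0) (hwu : B w u = 0) (ht : t + σ t = -B u u) :
    B (w + u + t • v) (w + u + t • v) = 0 ∧ B v (w + u + t • v) = 1 := by
  have h1 : B w v = 1 := by rw [hB.swap, hvw, map_one]
  have h2 : B u v = 0 := hB.swap_zero hvu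
  have h3 : B u w = 0 := hB.swap_zero hwu
  constructor
  · simp only [map_add, LinearMap.add_apply, smul_left, smul_right, hv, hw, hvw, hvu, hwu, h1, h2, h3]
    linear_combination ht
  · simp only [map_add, smul_right, hv, hvw, hvu]
    ring

section

variable [Finite F] [FiniteDimensional F V]

/-- for isotropic `v ≠ 0` the isotropic `w` with `B v w = 1` span `V` -/
theorem span_hyp (hB : HForm B) {v : V} (hv0 : v ≠ 0) (hv : B v v = 0) :
    Submodule.span F {w : V | B w w = 0 ∧ B v w = 1} = ⊤ := by
  obtain ⟨w, hw, hvw⟩ := exists_hyp hB hv0 hv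
  set S := Submodule.span F {w : V | B w w = 0 ∧ B v w = 1} with hS
  have hwS : w ∈ S := Submodule.subset_span ⟨hw, hvw⟩
  have hvS : v ∈ S := by
    obtain ⟨c, hc0, hc⟩ := exists_skew hB
    have h1 := iso_partner hB (u := 0) (t := c) hv hw hvw (map_zero _) (map_zero _) (by
      rw [hc, map_zero, neg_zero, add_neg_cancel])
    rw [add_zero] at h1
    have h2 : w + c • v ∈ S := Submodule.subset_span h1
    have h3 : c • v ∈ S := by
      have := S.sub_mem h2 hwS
      rwa [add_sub_cancel_left] at this
    exact (S.smul_mem_iff hc0).1 h3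
  rw [eq_top_iff]
  rintro y -
  set u := y - B v y • w - B w y • v with hu
  have h1 : B w v = 1 := by rw [hB.swap, hvw, map_one]
  have hvu : B v u = 0 := by
    rw [hu, map_sub, map_sub, smul_right, smul_right, hvw, hv]
    ring
  have hwu : B w u = 0 := by
    rw [hu, map_sub, map_sub, smul_right, smul_right, hw, h1]
    ring
  obtain ⟨t, ht⟩ := exists_trace hB (s := -B u u) (by rw [map_neg, self_fix hB])
  have h2 : w + u + t • v ∈ S := Submodule.subset_span (iso_partner hB hv hw hvw hvu hwu ht)
  have h3 : u ∈ S := by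
    have h4 := S.sub_mem (S.sub_mem h2 hwS) (S.smul_mem t hvS)
    have e : w + u + t • v - w - t • v = u := by abel
    rwa [e] at h4
  have h5 : y = u + B v y • w + B w y • v := by rw [hu]; abel
  rw [h5]
  exact S.add_mem (S.add_mem h3 (S.smul_mem _ hwS)) (S.smul_mem _ hvS)

theorem exists_isotropic (hB : HForm B) (hn : 2 ≤ finrank F V) : ∃ v : V, v ≠ 0 ∧ B v v = 0 := by
  obtain ⟨v, -, h1, h2⟩ := exists_iso_mem hB (U := ⊤) (by rwa [finrank_top])
  exact ⟨v, h1, h2⟩

/-- the basic relation on a hyperbolic pair -/
theorem rel (hB : HForm B) {g : V → V} {τ : F →+* F} (hadd : ∀ x y, g (x + y) = g x + g y)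
    (hsm : ∀ (c : F) x, g (c • x) = τ c • g x) (h : ∀ v, B v v = 0 → B v (g v) = 0) {v w : V} (hv : B v v = 0)
    (hw : B w w = 0) (hvw : B v w = 1) {c : F} (hc : σ c = -c) : τ c * B v (g w) = c * B w (g v) := by
  have h1 : B w v = 1 := by rw [hB.swap, hvw, map_one]
  have h2 : B (v + c • w) (v + c • w) = 0 := by
    simp only [map_add, LinearMap.add_apply, smul_left, smul_right, hv, hw, hvw, h1, hc]
    ring
  have h3 := h _ h2
  rw [hadd, hsm] at h3
  simp only [map_add, LinearMap.add_apply, smul_left, smul_right, h v hv, h w hw, hc] at h3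
  linear_combination h3

/-- **linear maps** -/
theorem exists_iso_lin (hB : HForm B) (hn : 2 ≤ finrank F V) {g : V → V} (hadd : ∀ x y, g (x + y) = g x + g y)
    (hsm : ∀ (c : F) x, g (c • x) = c • g x) (hg : ∀ κ : F, ∃ v, g v ≠ κ • v) :
    ∃ v, B v v = 0 ∧ B v (g v) ≠ 0 := by
  by_contra hcon
  push Not at hcon
  have hrel := fun {v w : V} (hv : B v v = 0) (hw : B w w = 0) (hvw : B v w = 1) {c : F} (hc : σ c = -c) =>
    rel hB (τ := RingHom.id F) hadd hsm hcon hv hw hvw hc
  obtain ⟨c0, hc0, hc⟩ := exists_skew hB
  obtain ⟨e, he⟩ := exists_moved hB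
  have hs : ∀ {v w : V}, B v v = 0 → B w w = 0 → B v w = 1 → B v (g w) = B w (g v) := by
    intro v w hv hw hvw
    exact mul_left_cancel₀ hc0 (hrel hv hw hvw hc)
  obtain ⟨v, hv0, hv⟩ := exists_isotropic hB hn
  have hg0 : g 0 = 0 := by simpa using hsm 0 0
  have hu : ∀ {w u : V}, B w w = 0 → B v w = 1 → B v u = 0 → B w u = 0 → B v (g u) = 0 := by
    intro w u hw hvw hvu hwu
    have key : ∀ u : V, B v u = 0 → B w u = 0 → B v (g u) = B u (g v) := by
      intro u hvu hwu
      obtain ⟨t, ht⟩ := exists_trace hB (s := -B u u) (by rw [map_neg, self_fix hB])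
      have h1 := iso_partner hB hv hw hvw hvu hwu ht
      have h2 := hs hv h1.1 h1.2
      have h3 := hs hv hw hvw
      simp only [hadd, hsm, map_add, LinearMap.add_apply, smul_left, smul_right, hcon v hv] at h2
      linear_combination h2 - h3
    have h1 := key u hvu hwu
    have h2 := key (e • u) (by rw [smul_right, hvu, mul_zero]) (by rw [smul_right, hwu, mul_zero])
    rw [hsm, smul_right, smul_left, ← h1] at h2
    have h3 : (e - σ e) * B v (g u) = 0 := by linear_combination h2
    exact (mul_eq_zero.1 h3).resolve_left (sub_ne_zero.2 (Ne.symm he))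
  obtain ⟨w, hw, hvw⟩ := exists_hyp hB hv0 hv
  have h1wv : ∀ {w : V}, B v w = 1 → B w v = 1 := fun {w} h => by rw [hB.swap, h, map_one]
  set κ := B v (g w) with hκ
  have hvg : ∀ y, B v (g y) = κ * B v y := by
    intro y
    set u := y - B v y • w - B w y • v with hu'
    have hvu : B v u = 0 := by
      rw [hu', map_sub, map_sub, smul_right, smul_right, hvw, hv]
      ring
    have hwu : B w u = 0 := by
      rw [hu', map_sub, map_sub, smul_right, smul_right, hw, h1wv hvw]
      ring
    have h5 : y = u + B v y • w + B w y • v := by rw [hu']; abel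
    have h6 : g y = g u + B v y • g w + B w y • g v := by
      conv_lhs => rw [h5]
      rw [hadd, hadd, hsm, hsm]
    rw [h6, map_add, map_add, smul_right, smul_right, hu hw hvw hvu hwu, hcon v hv, ← hκ]
    ring
  obtain ⟨v', hv'⟩ := hg κ
  apply hv'
  have hall : ∀ x y : V, B x (g y) = κ * B x y := by
    intro x y
    have hx : x ∈ Submodule.span F {w : V | B w w = 0 ∧ B v w = 1} := by rw [span_hyp hB hv0 hv]; trivial
    induction hx using Submodule.span_induction with
    | mem w' hw' =>
      obtain ⟨h1, h2⟩ := hw'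
      -- the same for `w'`
      have hs' := hs hv h1 h2
      have hvw' : B v (g w') = κ := by rw [hvg, h2, mul_one]
      have hwv' : B w' v = 1 := h1wv h2
      set u := y - B v y • w' - B w' y • v with hu'
      have hvu : B v u = 0 := by
        rw [hu', map_sub, map_sub, smul_right, smul_right, h2, hv]
        ring
      have hwu : B w' u = 0 := by
        rw [hu', map_sub, map_sub, smul_right, smul_right, h1, hwv']
        ring
      have h5 : y = u + B v y • w' + B w' y • v := by rw [hu']; abel
      have h6 : g y = g u + B v y • g w' + B w' y • g v := by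
        conv_lhs => rw [h5]
        rw [hadd, hadd, hsm, hsm]
      have h7 : B w' (g u) = 0 := by
        -- exchange the roles of `v` and `w'`
        have key : ∀ u : V, B v u = 0 → B w' u = 0 → B w' (g u) = B u (g w') := by
          intro u hvu hwu
          obtain ⟨t, ht⟩ := exists_trace hB (s := -B u u) (by rw [map_neg, self_fix hB])
          have h1' := iso_partner hB h1 hv hwv' hwu hvu ht
          have h2' := hs h1 h1'.1 h1'.2
          have h3' := hs h1 hv hwv'
          simp only [hadd, hsm, map_add, LinearMap.add_apply, smul_left, smul_right, hcon w' h1] at h2'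
          linear_combination h2' - h3'
        have h1' := key u hvu hwu
        have h2' := key (e • u) (by rw [smul_right, hvu, mul_zero]) (by rw [smul_right, hwu, mul_zero])
        rw [hsm, smul_right, smul_left, ← h1'] at h2'
        have h3' : (e - σ e) * B w' (g u) = 0 := by linear_combination h2'
        exact (mul_eq_zero.1 h3').resolve_left (sub_ne_zero.2 (Ne.symm he))
      rw [h6, map_add, map_add, smul_right, smul_right, h7, hcon w' h1, ← hs', hvw']
      ring
    | zero => simp
    | add a b _ _ ha hb => rw [map_add, LinearMap.add_apply, LinearMap.add_apply, ha, hb]; ring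
    | smul c a _ ha => rw [smul_left, smul_left, ha]; ring
  have h8 : ∀ x, B x (g v' - κ • v') = 0 := by
    intro x
    rw [map_sub, smul_right, hall, sub_self]
  have h9 : g v' - κ • v' = 0 := hB.eq_zero fun y => hB.swap_zero (h8 y)
  exact sub_eq_zero.1 h9

/-- **semilinear maps, `τ` not trivial on the fixed field of `σ`** -/
theorem exists_iso_semi (hB : HForm B) (hn : 2 ≤ finrank F V) {g : V → V} {τ : F →+* F}
    (hadd : ∀ x y, g (x + y) = g x + g y) (hsm : ∀ (c : F) x, g (c • x) = τ c • g x) (hsurj : Function.Surjective g)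
    (hτ : ∃ s, σ s = s ∧ τ s ≠ s) : ∃ v, B v v = 0 ∧ B v (g v) ≠ 0 := by
  by_contra hcon
  push Not at hcon
  obtain ⟨c0, hc0, hc⟩ := exists_skew hB
  obtain ⟨s, hs, hτs⟩ := hτ
  obtain ⟨v, hv0, hv⟩ := exists_isotropic hB hn
  have h1 : ∀ w, B w w = 0 → B v w = 1 → B v (g w) = 0 := by
    intro w hw hvw
    have h2 := rel hB hadd hsm hcon hv hw hvw hc
    have h3 := rel hB hadd hsm hcon hv hw hvw (c := s * c0) (by rw [map_mul, hs, hc]; ring)
    rw [map_mul] at h3
    have h4 : (τ s - s) * (τ c0 * B v (g w)) = 0 := by linear_combination h3 - s * h2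
    rcases mul_eq_zero.1 h4 with h5 | h5
    · exact absurd (sub_eq_zero.1 h5) hτs
    · exact (mul_eq_zero.1 h5).resolve_left ((map_ne_zero τ).2 hc0)
  have h2 : ∀ y, B v (g y) = 0 := by
    intro y
    have hy : y ∈ Submodule.span F {w : V | B w w = 0 ∧ B v w = 1} := by rw [span_hyp hB hv0 hv]; trivial
    induction hy using Submodule.span_induction with
    | mem w hw => exact h1 w hw.1 hw.2
    | zero =>
      have : g 0 = 0 := by simpa using hsm 0 0
      rw [this, map_zero]
    | add a b _ _ ha hb => rw [hadd, map_add, ha, hb, add_zero]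
    | smul c a _ ha => rw [hsm, smul_right, ha, mul_zero]
  apply hv0
  apply hB.eq_zero
  intro y
  obtain ⟨x, rfl⟩ := hsurj y
  exact h2 x

/-- **`σ`-semilinear maps** -/
theorem exists_iso_bar (hB : HForm B) (hn : 2 ≤ finrank F V) {g : V → V}
    (hadd : ∀ x y, g (x + y) = g x + g y) (hsm : ∀ (c : F) x, g (c • x) = σ c • g x)
    (hx : ∃ x, B x (g x) ≠ 0) : ∃ v, B v v = 0 ∧ B v (g v) ≠ 0 := by
  by_contra hcon
  push Not at hcon
  obtain ⟨c0, hc0, hc⟩ := exists_skew hB
  have hg0 : g 0 = 0 := by simpa using hsm 0 0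
  have h1 : ∀ v w, B v v = 0 → B w w = 0 → B v w = 1 → B v (g w) + B w (g v) = 0 := by
    intro v w hv hw hvw
    have h2 := rel hB hadd hsm hcon hv hw hvw hc
    rw [hc] at h2
    have h3 : c0 * (B v (g w) + B w (g v)) = 0 := by linear_combination -h2
    exact (mul_eq_zero.1 h3).resolve_left hc0
  have h2 : ∀ v, v ≠ 0 → B v v = 0 → ∀ y, B v (g y) + B y (g v) = 0 := by
    intro v hv0 hv y
    have hy : y ∈ Submodule.span F {w : V | B w w = 0 ∧ B v w = 1} := by rw [span_hyp hB hv0 hv]; trivial
    induction hy using Submodule.span_induction with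
    | mem w hw => exact h1 v w hv hw.1 hw.2
    | zero => rw [hg0, map_zero, map_zero, LinearMap.zero_apply, add_zero]
    | add a b _ _ ha hb => rw [hadd, map_add, map_add, LinearMap.add_apply]; linear_combination ha + hb
    | smul c a _ ha => rw [hsm, smul_right, smul_left]; linear_combination σ c * ha
  obtain ⟨v, hv0, hv⟩ := exists_isotropic hB hn
  -- the isotropic vectors span
  have hspan : ∀ y : V, y ∈ Submodule.span F {w : V | B w w = 0 ∧ B v w = 1} := by
    intro y
    rw [span_hyp hB hv0 hv]; trivial
  have h3 : ∀ x y, B x (g y) + B y (g x) = 0 := by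
    intro x
    have hx := hspan x
    induction hx using Submodule.span_induction with
    | mem w hw =>
      intro y
      refine h2 w ?_ hw.1 y
      rintro rfl
      have := hw.2
      rw [map_zero] at this
      exact zero_ne_one this
    | zero => intro y; rw [hg0, map_zero, map_zero, LinearMap.zero_apply, add_zero]
    | add a b _ _ ha hb =>
      intro y
      rw [hadd, map_add, map_add, LinearMap.add_apply]
      linear_combination ha y + hb y
    | smul c a _ ha => intro y; rw [hsm, smul_right, smul_left]; linear_combination σ c * ha y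
  obtain ⟨x, hx⟩ := hx
  apply hx
  have hx' := hspan x
  clear hx
  induction hx' using Submodule.span_induction with
  | mem w hw => exact hcon w hw.1
  | zero => rw [hg0, map_zero]
  | add a b _ _ ha hb =>
    rw [hadd, map_add, map_add, LinearMap.add_apply, LinearMap.add_apply]
    linear_combination ha + hb + h3 a b
  | smul c a _ ha => rw [hsm, smul_right, smul_left, ha]; ring

end

end Cfsg.Agent.H929.Gs
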