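import Cfsg.Agent.H450.UF.Model
import Cfsg.Agent.H957.T5U1
import Cfsg.Agent.H177.MeetPSU
import Cfsg.Agent.ClassicalGeometry.PSUAutMain
import Cfsg.Agent.H915.Gs.Base

/-!
# Automorphisms of `PSU_n(q)` of prime order as semilinear isometries (helper929), S4327, unitary family

`conv` : every automorphism `x` of `PSU n F q`, `n ≥ 3`, `(n, q) ≠ (3, 2)`, is induced by an automorphism `a` of
`SIso (formB hF n)`, given by a semilinear isometry `g`, and if `x` has prime order `r` then `g` is (1) linear and not a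
scalar, or (2) semilinear with respect to `σ` (`r = 2`), or (3) semilinear with respect to `θ` of order `r`, `r` odd, and `θ`
is not trivial on the fixed field of `σ`.
-/

set_option autoImplicit false
set_option linter.unusedSectionVars false

namespace Cfsg.Agent.H929.Gs

open Cfsg Module Cfsg.Agent.H91.U Cfsg.Agent.H450.UF Cfsg.Agent.LieClassical.HermBasic
open Cfsg.Agent.LieClassical.HermSiegel Cfsg.Agent.LieClassical.SUBasic
open Cfsg.Agent.H77.Witt (formB formB_apply)
open Cfsg.Agent.ClassicalGeometry.PSUAutCount Cfsg.Agent.ClassicalGeometry.UnitAutBasic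
open Cfsg.Agent.H177.MeetPSU (rho rho_apply rho_injective yy yy_apply ind_yy uniq)
open Cfsg.Agent.H903.SylSemi (Ind scal scal_apply)
open Cfsg.Agent.H915.Gs
open Matrix

variable {F : Type} [Field F] [Fintype F] {n q : ℕ}

/-- the bar automorphism -/
theorem bar_of_sq (hF : Fintype.card F = q ^ 2) {θ : F ≃+* F} (h1 : θ ≠ 1) (h2 : θ * θ = 1) (x : F) : θ x = x ^ q := by
  refine sig_eq hF (σ := (θ : F →+* F)) ?_ ?_ x
  · intro h
    apply h1
    ext y
    exact RingHom.congr_fun h y
  · intro a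
    have := congrArg (fun t : F ≃+* F => t a) h2
    exact this

/-- an automorphism trivial on the fixed field of `x ↦ x ^ q` has order at most two -/
theorem sq_of_trivial (hF : Fintype.card F = q ^ 2) {θ : F ≃+* F} (h : ∀ s : F, s ^ q = s → θ s = s) : θ * θ = 1 := by
  have hinv : ∀ a : F, (a ^ q) ^ q = a := fun a => pow_q_pow_q hF a
  have hadd : ∀ a b : F, (a + b) ^ q = a ^ q + b ^ q := fun a b => add_pow_q hF a b
  -- `θ e ∈ {e, e ^ q}`
  have hor : ∀ e : F, θ e = e ∨ θ e = e ^ q := by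
    intro e
    have h1 := h (e + e ^ q) (by rw [hadd, hinv, add_comm])
    have h2 := h (e * e ^ q) (by rw [mul_pow, hinv, mul_comm])
    rw [map_add] at h1
    rw [map_mul] at h2
    have h3 : (θ e - e) * (θ e - e ^ q) = 0 := by
      have e1 : θ (e ^ q) = e + e ^ q - θ e := by linear_combination h1
      rw [e1] at h2
      linear_combination -h2
    rcases mul_eq_zero.1 h3 with h4 | h4
    · exact Or.inl (sub_eq_zero.1 h4)
    · exact Or.inr (sub_eq_zero.1 h4)
  ext e
  change θ (θ e) = e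
  rcases hor e with h1 | h1
  · rw [h1, h1]
  · rw [h1, map_pow, h1, hinv]

variable [NeZero n]

/-- the automorphism of the group of isometries -/
noncomputable def cAut (hF : Fintype.card F = q ^ 2) (A : GU n F q) (θ : F ≃+* F) : MulAut (SIso (formB hF n)) :=
  (toIso hF).symm.trans ((semiConj A θ).trans (toIso hF))

theorem cAut_apply (hF : Fintype.card F = q ^ 2) (A : GU n F q) (θ : F ≃+* F) (h : SIso (formB hF n)) (v : Fin n → F) :
    (cAut hF A θ h).1 (yy A θ v) = yy A θ (h.1 v) := by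
  obtain ⟨s, rfl⟩ := (toIso hF).surjective h
  have h1 : cAut hF A θ (toIso hF s) = toIso hF (semiConj A θ s) := by
    change toIso hF (semiConj A θ ((toIso hF).symm (toIso hF s))) = _
    rw [MulEquiv.symm_apply_apply]
  rw [h1, toIso_apply, toIso_apply, yy_apply, yy_apply]
  exact act_semiConj A θ s v

theorem pi_cAut (hF : Fintype.card F = q ^ 2) (A : GU n F q) (θ : F ≃+* F) (h : SIso (formB hF n)) :
    pi hF n (cAut hF A θ h) = toAut A θ (pi hF n h) := by
  obtain ⟨s, rfl⟩ := (toIso hF).surjective h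
  have h1 : cAut hF A θ (toIso hF s) = toIso hF (semiConj A θ s) := by
    change toIso hF (semiConj A θ ((toIso hF).symm (toIso hF s))) = _
    rw [MulEquiv.symm_apply_apply]
  rw [h1, pi_toIso, pi_toIso]
  exact (toAut_pr A θ s).symm

/-- **Conversion.** -/
theorem conv (hF : Fintype.card F = q ^ 2) (hn : 3 ≤ n) (h32 : ¬ (n = 3 ∧ q = 2)) (x : MulAut (PSU n F q)) :
    ∃ (a : MulAut (SIso (formB hF n))) (g : Equiv.Perm (Fin n → F)) (θ : F ≃+* F),
      (∀ h, pi hF n (a h) = x (pi hF n h)) ∧ (∀ u v, g (u + v) = g u + g v) ∧ (∀ (c : F) v, g (c • v) = θ c • g v) ∧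
      (∀ u v, formB hF n (g u) (g v) = θ (formB hF n u v)) ∧ (∀ (h : SIso (formB hF n)) v, (a h).1 (g v) = g (h.1 v)) ∧
      ((orderOf x).Prime →
        (θ = 1 ∧ ∀ κ : F, ∃ v, g v ≠ κ • v) ∨ ((∀ c, θ c = c ^ q) ∧ orderOf x = 2) ∨
        (orderOf θ = orderOf x ∧ orderOf x ≠ 2 ∧ ∃ s : F, s ^ q = s ∧ θ s ≠ s)) := by
  have hne : Nonempty (Fin n) := ⟨⟨0, by omega⟩⟩
  have hnt : Nontrivial (Fin n → F) := Function.nontrivial
  obtain ⟨A, θ, rfl⟩ := Cfsg.Agent.ClassicalGeometry.PSUAutMain.exists_toAut hF hn h32 x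
  have hadd : ∀ u v, yy A θ (u + v) = yy A θ u + yy A θ v := by
    intro u v
    rw [yy_apply, yy_apply, yy_apply, ← Matrix.mulVec_add]
    congr 1
    funext i
    exact map_add θ _ _
  have hsm : ∀ (c : F) v, yy A θ (c • v) = θ c • yy A θ v := by
    intro a v
    rw [yy_apply, yy_apply, ← Matrix.mulVec_smul]
    congr 1
    funext i
    exact map_mul θ _ _
  have hform : ∀ u v, hermForm n F q (yy A θ u) (yy A θ v) = θ (hermForm n F q u v) := fun u v => herm_semi A θ u v
  refine ⟨cAut hF A θ, yy A θ, θ, pi_cAut hF A θ, hadd, hsm, fun u v => ?_, cAut_apply hF A θ, fun hr => ?_⟩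
  · rw [formB_apply, formB_apply]
    exact hform v u
  set r := orderOf (toAut A θ) with hrdef
  -- the power is a scalar
  have hsi : Cfsg.Agent.H957.T5U.SI q θ (yy A θ) := ⟨⟨hadd, hsm⟩, hform⟩
  have hI := (ind_yy A θ).pow r
  rw [hrdef, pow_orderOf_eq_one, ← hrdef] at hI
  have hp := hsi.pow r
  obtain ⟨b, hb⟩ := uniq hF hn ⟨θ ^ r, 1, one_ne_zero, ⟨hp.semi.add, hp.semi.smul⟩, fun u v => by
    rw [one_mul, hp.herm]⟩ hI
  have hθr : θ ^ r = 1 := by
    obtain ⟨v, hv⟩ := exists_ne (0 : Fin n → F)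
    ext c
    have h2 := hp.semi.smul c v
    rw [hb, scal_apply, scal_apply, smul_smul, smul_smul, mul_comm (b : F) c] at h2
    have h3 : (c * b - (θ ^ r) c * b) • v = 0 := by rw [sub_smul, h2, sub_self]
    have h4 := (smul_eq_zero.1 h3).resolve_right hv
    exact (mul_right_cancel₀ b.ne_zero (sub_eq_zero.1 h4)).symm
  by_cases hθ : θ = 1
  · left
    refine ⟨hθ, fun κ => ?_⟩
    by_contra hcon
    push Not at hcon
    have hκ0 : κ ≠ 0 := by
      rintro rfl
      obtain ⟨v, hv⟩ := exists_ne (0 : Fin n → F)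
      apply hv
      apply (yy A θ).injective
      rw [hcon, hcon, zero_smul, zero_smul]
    have h1 : toAut A θ = 1 := by
      refine (ind_yy A θ).unique (pr_surjective (n := n) (F := F) (q := q)) rho_injective fun s => ⟨s, ?_, rfl⟩
      rw [eq_mul_inv_iff_mul_eq]
      ext1 v
      rw [Equiv.Perm.mul_apply, Equiv.Perm.mul_apply, hcon, hcon, rho_apply, rho_apply]
      exact act_smul s κ v
    rw [hrdef, h1, orderOf_one] at hr
    exact Nat.not_prime_one hr
  · have : Fact r.Prime := ⟨hr⟩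
    have hord : orderOf θ = r := orderOf_eq_prime hθr hθ
    by_cases h2 : r = 2
    · right; left
      refine ⟨fun c => bar_of_sq hF hθ ?_ c, h2⟩
      rw [← pow_two, ← h2, hθr]
    · right; right
      refine ⟨hord, h2, ?_⟩
      by_contra hcon
      push Not at hcon
      have h3 := sq_of_trivial hF hcon
      rw [← pow_two] at h3
      have h4 := orderOf_dvd_of_pow_eq_one h3
      rw [hord] at h4
      exact h2 ((Nat.prime_dvd_prime_iff_eq hr Nat.prime_two).1 h4)

end Cfsg.Agent.H929.Gs
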