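import Cfsg.Agent.S0280

/-!
# Small odd primes divide the order of `PSU_n(q)` (helper929), S4327, unitary family

`dvd_psu` : `r` an odd prime, `r ≤ n + 1`, `3 ≤ n`: `r ∣ |PSU_n(q)|`.
`dvd_fermat` : `r ∣ q ^ (r - 2) * (q ^ (r - 1) - 1)`.
-/

set_option autoImplicit false

namespace Cfsg.Agent.H929.Gs

open Cfsg

/-- Fermat -/
theorem dvd_fermat {r q : ℕ} (hr : r.Prime) (h3 : 3 ≤ r) : r ∣ q ^ (r - 2) * (q ^ (r - 1) - 1) := by
  by_cases h : r ∣ q
  · exact Dvd.dvd.mul_right (dvd_pow h (by omega)) _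
  · refine Dvd.dvd.mul_left ?_ _
    have h1 : q.Coprime r := ((Nat.Prime.coprime_iff_not_dvd hr).2 h).symm
    have h2 := Nat.ModEq.pow_totient h1
    rw [Nat.totient_prime hr] at h2
    have hq : 1 ≤ q ^ (r - 1) := Nat.one_le_pow _ _ (Nat.pos_of_ne_zero (by rintro rfl; exact h (dvd_zero r)))
    exact (Nat.modEq_iff_dvd' hq).1 h2.symm

theorem add_one_dvd (q i : ℕ) (_hq : 1 ≤ q) :
    q + 1 ∣ (if Even i then q ^ (i + 1) + 1 else q ^ (i + 1) - 1) := by
  split_ifs with h
  · have h1 : Odd (i + 1) := h.add_one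
    have := Odd.nat_add_dvd_pow_add_pow q 1 h1
    rwa [one_pow] at this
  · have h1 : Even (i + 1) := by
      rw [Nat.not_even_iff_odd] at h
      exact h.add_one
    obtain ⟨k, hk⟩ := h1
    rw [hk, ← two_mul, pow_mul]
    have h2 : q ^ 2 - 1 = (q + 1) * (q - 1) := by
      have := Nat.sq_sub_sq q 1
      rwa [one_pow] at this
    have h3 : q ^ 2 - 1 ∣ (q ^ 2) ^ k - 1 := by
      have := Nat.sub_dvd_pow_sub_pow (q ^ 2) 1 k
      rwa [one_pow] at this
    exact (Dvd.intro _ h2.symm).trans h3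

/-- **Small primes.** -/
theorem dvd_psu {F : Type*} [Field F] [Fintype F] {q : ℕ} (hF : Fintype.card F = q ^ 2) {n : ℕ} (hn : 3 ≤ n) {r : ℕ}
    (hr : r.Prime) (h3 : 3 ≤ r) (hrn : r ≤ n + 1) : r ∣ Nat.card (PSU n F q) := by
  have hodd : Odd r := hr.odd_of_ne_two (by omega)
  have hq : 1 ≤ q := by
    rcases Nat.eq_zero_or_pos q with h | h
    · rw [h] at hF
      exact absurd hF (by simp)
    · exact h
  have h := Cfsg.Agent.S0280.result hF n (by omega)
  set P := q ^ (n * (n - 1) / 2) * ∏ i ∈ Finset.range n, (if Even i then q ^ (i + 1) + 1 else q ^ (i + 1) - 1) with hP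
  by_cases hr1 : r ∣ q + 1
  · -- `(q + 1) ^ n ∣ P`
    have h1 : (q + 1) ^ n ∣ P := by
      refine Dvd.dvd.mul_left ?_ _
      have := Finset.prod_dvd_prod_of_dvd (s := Finset.range n) (fun _ => q + 1)
        (fun i => if Even i then q ^ (i + 1) + 1 else q ^ (i + 1) - 1) (fun i _ => add_one_dvd q i hq)
      rwa [Finset.prod_const, Finset.card_range] at this
    rw [← h] at h1
    obtain ⟨d, hd⟩ := Nat.gcd_dvd_right n (q + 1)
    have h2 : (q + 1) ^ 2 * (q + 1) ^ (n - 2) ∣ (q + 1) ^ 2 * Nat.card (PSU n F q) := by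
      rw [← pow_add, show 2 + (n - 2) = n by omega]
      refine h1.trans ?_
      rw [← mul_assoc, pow_two]
      exact Nat.mul_dvd_mul (Nat.mul_dvd_mul (Dvd.intro _ hd.symm) dvd_rfl) dvd_rfl
    have h4 := (Nat.mul_dvd_mul_iff_left (pow_pos (Nat.succ_pos q) 2)).1 h2
    exact (hr1.trans (dvd_pow_self _ (by omega))).trans h4
  · have hcop : Nat.Coprime r (Nat.gcd n (q + 1) * (q + 1)) := by
      have h1 : Nat.Coprime r (q + 1) := (Nat.Prime.coprime_iff_not_dvd hr).2 hr1
      exact Nat.Coprime.mul_right (Nat.Coprime.coprime_dvd_right (Nat.gcd_dvd_right n (q + 1)) h1) h1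
    have h2 : r ∣ P := by
      by_cases hrq : r ∣ q
      · refine Dvd.dvd.mul_right (dvd_pow hrq ?_) _
        have : 3 * 2 ≤ n * (n - 1) := Nat.mul_le_mul hn (by omega)
        omega
      · refine Dvd.dvd.mul_left ?_ _
        have h5 := dvd_fermat (q := q) hr h3
        have h6 : r ∣ q ^ (r - 1) - 1 := by
          rcases (Nat.Prime.dvd_mul hr).1 h5 with h7 | h7
          · exact absurd (hr.dvd_of_dvd_pow h7) hrq
          · exact h7
        have h8 := Finset.dvd_prod_of_mem (fun i => if Even i then q ^ (i + 1) + 1 else q ^ (i + 1) - 1)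
          (Finset.mem_range.2 (show r - 2 < n by omega))
        have h9 : ¬ Even (r - 2) := by
          rw [Nat.even_iff]
          have := Nat.odd_iff.1 hodd
          omega
        simp only [h9, if_false] at h8
        rw [show r - 2 + 1 = r - 1 by omega] at h8
        exact h6.trans h8
    rw [← h, ← mul_assoc] at h2
    exact (hcop.dvd_mul_left).1 h2

end Cfsg.Agent.H929.Gs
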