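import Cfsg.Agent.H929.Gs.R3
import Cfsg.Agent.H929.Gs.Conv
import Cfsg.Agent.H929.Gs.Num
import Cfsg.Agent.H405.Gs.Card
import Cfsg.Agent.S0283

/-!
# The row of `PSU_n(q)` in `S4327` (helper929): assembly

* `Inp B a` : what is needed of an automorphism `a` of `SIso B`;
* `row_psu_of` : `Row (PSU n F q)` if `Inp` holds for all semilinear isometries of the three types `Typ`.
-/

set_option autoImplicit false
set_option linter.unusedSectionVars false

namespace Cfsg.Agent.H929.Gs

open Cfsg Module Cfsg.Agent.H91.U Cfsg.Agent.H450.UF Cfsg.Agent.H915.Gs Cfsg.Agent.H937.Gs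
open Cfsg.Agent.H405.Gs (TS Nd Tr)
open Cfsg.Agent.H77.Witt (formB)
open Cfsg.Agent.LieClassical.HermBasic Cfsg.Agent.LieClassical.HermSiegel

/-- the input -/
structure Inp {F V : Type*} [Field F] [AddCommGroup V] [Module F V] {σ : F →+* F} (B : V →ₛₗ[σ] V →ₗ[F] F)
    (a : MulAut (SIso B)) : Prop where
  low : finrank F V ≤ 10 → Reach a 11 ⊤
  high : 11 ≤ finrank F V → Reach a (finrank F V + 1) ⊤
  nat : ∀ m, 4 ≤ m → m < finrank F V → ∃ A : Submodule F V, Nd B A ∧ finrank F A = m ∧ Reach a (m + 2) (TS B A)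

theorem iterate_eq {F : Type*} [Field F] (θ : F ≃+* F) (k : ℕ) (x : F) : ((θ : F →+* F))^[k] x = (θ ^ k) x := by
  induction k with
  | zero => rfl
  | succ k ih =>
    rw [Function.iterate_succ_apply', ih, pow_succ']
    rfl

variable {F : Type} [Field F] [Fintype F] {n q : ℕ}

theorem hker (hF : Fintype.card F = q ^ 2) (hn : 3 ≤ n) (h : SIso (formB hF n)) (hh : H450.UF.pi hF n h = 1) :
    ∃ c : F, ∀ x : Fin n → F, (h : (Fin n → F) ≃ₗ[F] (Fin n → F)) x = c • x := by
  obtain ⟨s, rfl⟩ := (toIso hF).surjective h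
  rw [pi_toIso] at hh
  obtain ⟨c, -, hc⟩ := Cfsg.Agent.ClassicalGeometry.UnitAutBasic.exists_scalar_of_mem_center hF hn
    ((QuotientGroup.eq_one_iff s).1 hh)
  exact ⟨c, fun x => by rw [toIso_apply, hc]⟩

theorem not_comm_psu (h : IsSimpleGroup (PSU n F q)) : ¬ IsMulCommutative (PSU n F q) := by
  intro hc
  let _ : CommGroup (PSU n F q) :=
    { (inferInstance : Group (PSU n F q)) with mul_comm := hc.is_comm.comm }
  have hcyc : IsCyclic (PSU n F q) := IsSimpleGroup.isCyclic
  have h1 : ∀ a b : SU n F q, a * b = b * a := fun a b =>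
    commutative_of_cyclic_center_quotient (QuotientGroup.mk' (Subgroup.center (SU n F q)))
      (by rw [QuotientGroup.ker_mk']) a b
  obtain ⟨x, hx⟩ := exists_ne (1 : PSU n F q)
  obtain ⟨a, rfl⟩ := QuotientGroup.mk_surjective x
  exact hx ((QuotientGroup.eq_one_iff a).2 (Subgroup.mem_center_iff.2 fun b => h1 b a))

/-- **the row of `PSU_n(q)`** from the input -/
theorem row_psu_of (hF : Fintype.card F = q ^ 2) (hn : 3 ≤ n) (h32 : ¬ (n = 3 ∧ q = 2))
    (H : ∀ (a : MulAut (SIso (formB hF n))) (g : (Fin n → F) → (Fin n → F)) (τ : F →+* F),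
      Sim (formB hF n) a g τ → Typ ((conj hF : F ≃+* F) : F →+* F) g τ → Inp (formB hF n) a) :
    Row (PSU n F q) := by
  intro r x hr h2 hx
  have hs := Cfsg.Agent.S0283.result hF n hn h32
  have hfin : Finite (PSU n F q) := by
    have : Finite (SU n F q) := inferInstance
    exact Finite.of_surjective _ (QuotientGroup.mk'_surjective (Subgroup.center (SU n F q)))
  have hinj := conj_injective (not_comm_psu hs)
  have hfr : finrank F (Fin n → F) = n := finrank_fin_fun F
  have : NeZero n := ⟨by omega⟩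
  obtain ⟨a, g, θ, h1, h3, h4, h5, h6, h7⟩ := conv hF hn h32 x
  have hB := hform hF n
  have hσ : ∀ c, ((conj hF : F ≃+* F) : F →+* F) c = c ^ q := fun c => rfl
  have hsim : Sim (formB hF n) a g (θ : F →+* F) :=
    { add := h3
      smul := h4
      surj := g.surjective
      form := h5
      comp := h6 }
  have htyp : Typ ((conj hF : F ≃+* F) : F →+* F) g (θ : F →+* F) := by
    rcases h7 hx with ⟨e1, e2⟩ | ⟨e1, e2⟩ | ⟨e1, e2, s, e3, e4⟩
    · exact Or.inl ⟨fun c => by rw [e1]; rfl, e2⟩
    · exact Or.inr (Or.inl fun c => by rw [hσ]; exact e1 c)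
    · right; right
      obtain ⟨m, hm⟩ := hx.odd_of_ne_two e2
      refine ⟨⟨m, fun c => ?_⟩, s, by rw [hσ]; exact e3, e4⟩
      rw [iterate_eq, ← hm, ← e1, pow_orderOf_eq_one]
      rfl
  have hinp := H a g _ hsim htyp
  have hr3 : 3 ≤ r := by
    have := hr.two_le
    omega
  by_cases h10 : n ≤ 10
  · exact Tri.of_reach (d := 11) (by norm_num) hinj
      ((hinp.low (by rw [hfr]; exact h10)).transfer_top (H450.UF.pi_surjective hF n) h1) (Or.inl le_rfl)
  · have hreach := (hinp.high (by rw [hfr]; omega)).transfer_top (H450.UF.pi_surjective hF n) h1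
    rw [hfr] at hreach
    refine Tri.of_reach (d := n + 1) (by omega) hinj hreach (Or.inr ⟨fun hnd => ?_, fun hd => ?_⟩)
    · by_contra hcon
      exact hnd (dvd_psu hF hn hr hr3 (by omega))
    · by_cases hle : n + 1 ≤ 2 * (r - 2)
      · exact Or.inl hle
      · right
        by_cases hr5 : r = 3
        · subst hr5
          by_cases hx3 : orderOf x = 3
          · exact Ord.of_orderOf (by norm_num) (by rw [hx3])
          · exact ord_three hF hσ hB (by rw [hfr]; omega) hinj (H450.UF.pi_surjective hF n) (hker hF hn) hsim htyp h1 hx hx3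
        · have hr4 : r ≠ 4 := by rintro rfl; exact absurd hr (by norm_num)
          obtain ⟨A, hA, hAm, hAr⟩ := hinp.nat (r - 1) (by omega) (by rw [hfr]; omega)
          exact H405.Gs.ord_natural hF hB (H450.UF.pi_surjective hF n) (hker hF hn) hinj h1 hA
            (H405.Gs.Tr.of4 hB hA (by omega)) hr h2 hAm (by rw [hAm, hfr]; omega) (k := r - 1 + 2) (by omega) hAr
            (by omega)

end Cfsg.Agent.H929.Gs
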